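import Cfsg.Agent.Lib.Fischer.UB.B10.A

set_option autoImplicit false
set_option maxRecDepth 100000

namespace Cfsg.Agent.Fi.UB10

open Cfsg.Agent.PC

theorem a28000 : Nat.beq (rng aux (nat_lit 28000) (nat_lit 4000)) (nat_lit 0) = true := by decide +kernel
theorem a32000 : Nat.beq (rng aux (nat_lit 32000) (nat_lit 4000)) (nat_lit 0) = true := by decide +kernel
theorem a36000 : Nat.beq (rng aux (nat_lit 36000) (nat_lit 1634)) (nat_lit 0) = true := by decide +kernel

end Cfsg.Agent.Fi.UB10
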