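import Cfsg.Agent.Lib.Fischer.UB.B10.R0
import Cfsg.Agent.Lib.Fischer.UB.B10.R1
import Cfsg.Agent.Lib.Fischer.UB.B10.R2
import Cfsg.Agent.Lib.Fischer.UB.B10.R3

set_option autoImplicit false
set_option maxRecDepth 100000

namespace Cfsg.Agent.Fi.UB10

open Cfsg.Agent.PC

theorem rows : ∀ i < 31671, row i = 0 := by
  have h := zero_lt_zero row
  have h := zero_lt_add (a := (nat_lit 0)) (n := (nat_lit 3000)) (b := (nat_lit 3000)) h r0 rfl
  have h := zero_lt_add (a := (nat_lit 3000)) (n := (nat_lit 3000)) (b := (nat_lit 6000)) h r3000 rfl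
  have h := zero_lt_add (a := (nat_lit 6000)) (n := (nat_lit 3000)) (b := (nat_lit 9000)) h r6000 rfl
  have h := zero_lt_add (a := (nat_lit 9000)) (n := (nat_lit 3000)) (b := (nat_lit 12000)) h r9000 rfl
  have h := zero_lt_add (a := (nat_lit 12000)) (n := (nat_lit 3000)) (b := (nat_lit 15000)) h r12000 rfl
  have h := zero_lt_add (a := (nat_lit 15000)) (n := (nat_lit 3000)) (b := (nat_lit 18000)) h r15000 rfl
  have h := zero_lt_add (a := (nat_lit 18000)) (n := (nat_lit 3000)) (b := (nat_lit 21000)) h r18000 rfl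
  have h := zero_lt_add (a := (nat_lit 21000)) (n := (nat_lit 3000)) (b := (nat_lit 24000)) h r21000 rfl
  have h := zero_lt_add (a := (nat_lit 24000)) (n := (nat_lit 3000)) (b := (nat_lit 27000)) h r24000 rfl
  have h := zero_lt_add (a := (nat_lit 27000)) (n := (nat_lit 3000)) (b := (nat_lit 30000)) h r27000 rfl
  have h := zero_lt_add (a := (nat_lit 30000)) (n := (nat_lit 1671)) (b := (nat_lit 31671)) h r30000 rfl
  exact h
theorem auxs : ∀ i < 37634, aux i = 0 := by
  have h := zero_lt_zero aux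
  have h := zero_lt_add (a := (nat_lit 0)) (n := (nat_lit 4000)) (b := (nat_lit 4000)) h a0 rfl
  have h := zero_lt_add (a := (nat_lit 4000)) (n := (nat_lit 4000)) (b := (nat_lit 8000)) h a4000 rfl
  have h := zero_lt_add (a := (nat_lit 8000)) (n := (nat_lit 4000)) (b := (nat_lit 12000)) h a8000 rfl
  have h := zero_lt_add (a := (nat_lit 12000)) (n := (nat_lit 4000)) (b := (nat_lit 16000)) h a12000 rfl
  have h := zero_lt_add (a := (nat_lit 16000)) (n := (nat_lit 4000)) (b := (nat_lit 20000)) h a16000 rfl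
  have h := zero_lt_add (a := (nat_lit 20000)) (n := (nat_lit 4000)) (b := (nat_lit 24000)) h a20000 rfl
  have h := zero_lt_add (a := (nat_lit 24000)) (n := (nat_lit 4000)) (b := (nat_lit 28000)) h a24000 rfl
  have h := zero_lt_add (a := (nat_lit 28000)) (n := (nat_lit 4000)) (b := (nat_lit 32000)) h a28000 rfl
  have h := zero_lt_add (a := (nat_lit 32000)) (n := (nat_lit 4000)) (b := (nat_lit 36000)) h a32000 rfl
  have h := zero_lt_add (a := (nat_lit 36000)) (n := (nat_lit 1634)) (b := (nat_lit 37634)) h a36000 rfl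
  exact h
theorem closes.{u} : ClosesT.{u} (fun j => j) rels 10 9 31671 T :=
  hc_closes (N1 := (nat_lit 31670)) rfl T_eq (by decide +kernel) rows auxs
theorem T_inv : ∀ c < 31671, ∀ j < 10, T j c < 31671 ∧ T j (T j c) = c := 
  hc_inv (inv := (fun j => j)) (N1 := (nat_lit 31670)) rfl T_eq rows

end Cfsg.Agent.Fi.UB10
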